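import Groth.Agent.GrpQFpqc.ClosedDescent

/-!
# The locus of a section is closed when the graph is closed
-/

set_option autoImplicit false
set_option backward.isDefEq.respectTransparency.types false
set_option linter.style.haveILetI false

universe u

open CategoryTheory CategoryTheory.Limits MonoidalCategory CartesianMonoidalCategory AlgebraicGeometry
open Groth.Agent.SGA3cLib

noncomputable section

namespace Groth.Agent.GrpQFpqc

local notation "fq" => Scheme.fpqcPrecoverage

variable {S : Scheme.{u}} {R U : Over S} {s t : R ⟶ U} {T : Over S}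
  (σ : QuotSh.rep fq T ⟶ QuotSh.quot fq s t)

theorem exists_rep_closed [IsEquivalenceRelation s t] (hc : IsClosedImmersion (lift t s).left) :
    ∃ (Z : Over S) (i : Z ⟶ U ⊗ T), IsClosedImmersion i.left ∧ Rep σ i := by
  haveI := hc
  haveI : Mono (lift t s) := Over.mono_of_mono_left _
  obtain ⟨T', f, u, hf, hu⟩ := exists_global_lift s t σ
  let g : (U ⊗ T').left ⟶ (U ⊗ T).left := (U ◁ f).left
  have hg : IsFpqcCov g := isFpqcCov_of_isPullback (((isPullback_whisker U f).map (Over.forget S)).flip) hf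
  let i' : pullback (lift t s) (U ◁ u) ⟶ U ⊗ T' := pullback.snd (lift t s) (U ◁ u)
  have hi'sq : IsPullback (pullback.fst (lift t s) (U ◁ u)).left i'.left (lift t s).left (U ◁ u).left :=
    (IsPullback.of_hasPullback (lift t s) (U ◁ u)).map (Over.forget S)
  haveI : IsClosedImmersion i'.left :=
    MorphismProperty.of_isPullback (P := @IsClosedImmersion) hi'sq hc
  have hchart : ∀ (W : Scheme.{u}) (y : W ⟶ (U ⊗ T').left),
      PtS σ (y ≫ g) ↔ ∃ z, z ≫ i'.left = y := by
    intro W y
    let y' : Over.mk (y ≫ (U ⊗ T').hom) ⟶ U ⊗ T' := Over.homMk y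
    have h1 : PtS σ (y ≫ g) ↔ ∃ r : Over.mk (y ≫ (U ⊗ T').hom) ⟶ R, r ≫ lift t s = y' ≫ U ◁ u := by
      rw [← pt_chart f u hu y', pt_iff]
      rfl
    rw [h1]
    constructor
    · rintro ⟨r, hr⟩
      exact ⟨(pullback.lift r y' hr).left, congrArg (fun k => Over.Hom.left k) (pullback.lift_snd r y' hr)⟩
    · rintro ⟨l, hl⟩
      let l' : Over.mk (y ≫ (U ⊗ T').hom) ⟶ pullback (lift t s) (U ◁ u) := Over.homMk l (by
        show l ≫ _ = y ≫ _
        rw [← Over.w i', ← Category.assoc, hl])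
      have hl' : l' ≫ i' = y' := Over.OverMorphism.ext hl
      exact ⟨l' ≫ pullback.fst _ _, by rw [Category.assoc, pullback.condition, ← Category.assoc, hl']⟩
  obtain ⟨Z, j, hj, hZ⟩ := ClosedDescent.exists_closedImmersion g hg (fun W x => PtS σ x)
    (fun W W' w x h => PtS.comp h w) (fun W x 𝒱 h => PtS.of_openCover 𝒱 h)
    (fun W W' w _ _ _ x h => PtS.of_cov w (isFpqcCov_of_fpqc w) h) i'.left hchart
  let i : Over.mk (j ≫ (U ⊗ T).hom) ⟶ U ⊗ T := Over.homMk j
  haveI : IsClosedImmersion i.left := hj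
  refine ⟨_, i, hj, Over.mono_of_mono_left _, fun {W} z => ?_⟩
  rw [pt_iff, hZ]
  constructor
  · rintro ⟨w, hw⟩
    exact ⟨Over.homMk w (by show w ≫ j ≫ _ = _; rw [reassoc_of% hw, Over.w]), Over.OverMorphism.ext hw⟩
  · rintro ⟨w, rfl⟩
    exact ⟨w.left, rfl⟩

end Groth.Agent.GrpQFpqc
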