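import Groth.Agent.GrpQFpqc.Closed
import Groth.Agent.S6041

/-!
# The fppf quotient of an equivalence relation with closed graph is an fpqc sheaf
-/

set_option autoImplicit false
set_option backward.isDefEq.respectTransparency.types false
set_option linter.style.haveILetI false

universe u

open CategoryTheory CategoryTheory.Limits MonoidalCategory CartesianMonoidalCategory AlgebraicGeometry Opposite
open Groth.Agent.SGA3cLib

noncomputable section

namespace Groth.Agent.GrpQFpqc

local notation "fq" => Scheme.fpqcPrecoverage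
local notation "fp" => Scheme.fppfPrecoverage

variable {S : Scheme.{u}}

theorem J_fppf_le : QuotSh.J fp S ≤ QuotSh.J fq S := fun T C hC => by
  rw [GrothendieckTopology.mem_over_iff] at hC ⊢
  exact Scheme.fppfTopology_le_fpqcTopology _ hC

theorem isFpqcCov_of_fppf {X Y : Scheme.{u}} (q : X ⟶ Y) [Flat q] [Surjective q] [LocallyOfFinitePresentation q] :
    IsFpqcCov q := by
  refine IsFpqcCov.of_forall q fun V hV => ?_
  obtain ⟨W, hW, hWV⟩ := IsOpenMap.exists_opens_image_eq_of_prespectralSpace q.continuous q.isOpenMap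
    (U := (V : Set Y)) (by rw [Set.range_eq_univ.2 q.surjective]; exact Set.subset_univ _) V.isOpen hV.isCompact
  exact ⟨W, hW, hWV⟩

variable {R U : Over S} (s t : R ⟶ U)

/-- the fpqc quotient as an fppf sheaf -/
def asFppf : QuotSh.Sh fp S :=
  ⟨(QuotSh.quot fq s t).obj, (isSheaf_iff_isSheaf_of_type _ _).2
    (Presieve.isSheaf_of_le _ J_fppf_le ((isSheaf_iff_isSheaf_of_type _ _).1 (QuotSh.quot fq s t).property))⟩

def toAsFppf : QuotSh.rep fp U ⟶ asFppf s t :=
  (secEquiv (asFppf s t) U).symm (secEquiv (QuotSh.quot fq s t) U (QuotSh.quotπ fq s t))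

theorem sec_toAsFppf {W : Over S} (x : W ⟶ U) :
    secEquiv (asFppf s t) W (QuotSh.repMap fp x ≫ toAsFppf s t) = secEquiv (QuotSh.quot fq s t) W (cl s t fq x) := by
  refine (secEquiv_naturality x _).trans (Eq.trans ?_ (secEquiv_naturality x (QuotSh.quotπ fq s t)).symm)
  rw [toAsFppf, Equiv.apply_symm_apply]
  rfl

/-- the comparison of the quotient sheaves -/
def compare : QuotSh.quot fp s t ⟶ asFppf s t :=
  coequalizer.desc (toAsFppf s t) ((secEquiv (asFppf s t) R).injective (by
    rw [sec_toAsFppf, sec_toAsFppf]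
    have h := cl_eq_of_rel (K := fq) s t (𝟙 R)
    rw [Category.id_comp, Category.id_comp] at h
    rw [h]))

theorem sec_compare {W : Over S} (x : W ⟶ U) :
    secEquiv (asFppf s t) W (cl s t fp x ≫ compare s t) = secEquiv (QuotSh.quot fq s t) W (cl s t fq x) := by
  refine Eq.trans (congrArg (secEquiv (asFppf s t) W) ?_) (sec_toAsFppf s t x)
  exact (Category.assoc _ _ _).trans (congrArg _ (coequalizer.π_desc _ _))

theorem sec_compare_comp {W W' : Over S} (f : W' ⟶ W) (a : QuotSh.rep fp W ⟶ QuotSh.quot fp s t)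
    (b : QuotSh.rep fq W ⟶ QuotSh.quot fq s t)
    (h : secEquiv (asFppf s t) W (a ≫ compare s t) = secEquiv (QuotSh.quot fq s t) W b) :
    secEquiv (asFppf s t) W' ((QuotSh.repMap fp f ≫ a) ≫ compare s t) =
      secEquiv (QuotSh.quot fq s t) W' (QuotSh.repMap fq f ≫ b) := by
  rw [Category.assoc, secEquiv_naturality, secEquiv_naturality, h]
  rfl

theorem isSheaf_fpqc [IsEquivalenceRelation s t] [Flat s.left] [Surjective s.left]
    [LocallyOfFinitePresentation s.left] (hc : IsClosedImmersion (lift t s).left) :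
    Presheaf.IsSheaf (QuotSh.J fq S) (QuotSh.quot fp s t).obj := by
  haveI := hc
  haveI : Mono (lift t s) := Over.mono_of_mono_left _
  have hinj : ∀ {W : Over S} (a b : QuotSh.rep fp W ⟶ QuotSh.quot fp s t),
      a ≫ compare s t = b ≫ compare s t → a = b := by
    intro W a b h
    obtain ⟨Ca, hCa, ha⟩ := exists_cover_lift s t a
    obtain ⟨Cb, hCb, hb⟩ := exists_cover_lift s t b
    refine eq_of_cover ((QuotSh.J fp S).intersection_covering hCa hCb) fun W' f hf => ?_
    obtain ⟨x, hx⟩ := ha f hf.1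
    obtain ⟨y, hy⟩ := hb f hf.2
    rw [← hx, ← hy]
    have h' : cl s t fp x ≫ compare s t = cl s t fp y ≫ compare s t := by
      rw [hx, hy, Category.assoc, Category.assoc, h]
    have h'' := congrArg (secEquiv (asFppf s t) W') h'
    rw [sec_compare, sec_compare] at h''
    obtain ⟨r, rfl, rfl⟩ := ptRel_of_cl_eq s t _ _ ((secEquiv _ W').injective h'')
    exact cl_eq_of_rel s t r
  have hsurj : ∀ {W : Over S} (σ : QuotSh.rep fq W ⟶ QuotSh.quot fq s t),
      ∃ a : QuotSh.rep fp W ⟶ QuotSh.quot fp s t,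
        secEquiv (asFppf s t) W (a ≫ compare s t) = secEquiv (QuotSh.quot fq s t) W σ := by
    intro W σ
    obtain ⟨Z, i, hi, hR⟩ := exists_rep_closed σ hc
    haveI := descends_flat.{u}
    haveI : Flat (i ≫ snd U W).left := hR.property @Flat inferInstance
    haveI : Surjective (i ≫ snd U W).left := hR.property @Surjective inferInstance
    haveI : LocallyOfFinitePresentation (i ≫ snd U W).left := hR.property @LocallyOfFinitePresentation inferInstance
    obtain ⟨a, ha, -⟩ := Groth.Agent.S6041.result s t W Z i hR.related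
    refine ⟨a, ?_⟩
    let τ : QuotSh.rep fq W ⟶ QuotSh.quot fq s t :=
      (secEquiv (QuotSh.quot fq s t) W).symm (secEquiv (asFppf s t) W (a ≫ compare s t))
    have hτ : secEquiv (asFppf s t) W (a ≫ compare s t) = secEquiv (QuotSh.quot fq s t) W τ :=
      ((secEquiv (QuotSh.quot fq s t) W).apply_symm_apply _).symm
    have h1 := sec_compare_comp s t (i ≫ snd U W) a τ hτ
    rw [← ha] at h1
    have h2 : cl s t fq (i ≫ fst U W) = QuotSh.repMap fq (i ≫ snd U W) ≫ τ :=
      (secEquiv _ Z).injective ((sec_compare s t (i ≫ fst U W)).symm.trans h1)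
    rw [hτ, eq_of_cov (i ≫ snd U W) (isFpqcCov_of_fppf _) (h2.symm.trans hR.eq)]
  let φ : (QuotSh.quot fp s t).obj ⟶ (QuotSh.quot fq s t).obj := (compare s t).hom
  haveI : IsIso φ := by
    rw [NatTrans.isIso_iff_isIso_app]
    rintro ⟨W⟩
    rw [isIso_iff_bijective]
    constructor
    · intro x y h
      obtain ⟨a, rfl⟩ := (secEquiv (QuotSh.quot fp s t) W).surjective x
      obtain ⟨b, rfl⟩ := (secEquiv (QuotSh.quot fp s t) W).surjective y
      refine congrArg _ (hinj a b ((secEquiv (asFppf s t) W).injective ?_))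
      exact h
    · intro y
      obtain ⟨σ, rfl⟩ := (secEquiv (QuotSh.quot fq s t) W).surjective y
      obtain ⟨a, ha⟩ := hsurj σ
      exact ⟨secEquiv (QuotSh.quot fp s t) W a, ha⟩
  exact (Presheaf.isSheaf_of_iso_iff (asIso φ)).2 (QuotSh.quot fq s t).property

end Groth.Agent.GrpQFpqc
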