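import Groth.Agent.GrpQFpqc.Sect
import Groth.Agent.SGA3cLib.FpqcCov
import Groth.Agent.Et18.Descent
import Mathlib.AlgebraicGeometry.Sites.Fpqc
import Mathlib.AlgebraicGeometry.Limits
import Mathlib.CategoryTheory.Sites.SubcanonicalOver

/-!
# Single fpqc coverings for the big fpqc site; global lifts of sections of quotient sheaves
-/

set_option autoImplicit false
set_option backward.isDefEq.respectTransparency.types false
set_option linter.style.haveILetI false

universe u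

open CategoryTheory CategoryTheory.Limits AlgebraicGeometry Opposite
open Groth.Agent.SGA3cLib

noncomputable section

namespace Groth.Agent.GrpQFpqc

variable {Y Z : Scheme.{u}} {q : Z ⟶ Y}

theorem descends_flat :
    MorphismProperty.DescendsAlong @Flat (@Surjective ⊓ @Flat ⊓ @QuasiCompact : MorphismProperty Scheme.{u}) :=
  HasRingHomProperty.descendsAlong_flat <| .mk _ RingHom.Flat.respectsIso fun R A B _ _ _ _ _ h h' => by
    rw [RingHom.flat_algebraMap_iff] at h' ⊢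
    rw [RingHom.faithfullyFlat_algebraMap_iff] at h
    exact Module.Flat.of_flat_tensorProduct R B A

/-- a compact open of the source over a compact open in the image -/
theorem exists_compact_over (hq : IsFpqcCov q) {V : Y.Opens} (hV : IsCompact (V : Set Y)) :
    ∃ W : Z.Opens, IsCompact (W : Set Z) ∧ q '' (W : Set Z) = (V : Set Y) := by
  have h : ∀ y ∈ V, ∃ (N : Y.Opens) (M : Z.Opens), y ∈ N ∧ IsCompact (M : Set Z) ∧ N ≤ V ∧ q '' (M : Set Z) = (N : Set Y) := by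
    intro y hy
    obtain ⟨V₀, hyV, hV₀, W, e, hW, ⟨⟨hs, hfl⟩, hqc⟩⟩ := hq.exists_resLE y
    obtain ⟨N, hN, hyN, hle⟩ := exists_isAffineOpen_mem_and_subset (U := V ⊓ V₀) (x := y) ⟨hy, hyV⟩
    have hN' : IsCompact ((V₀.ι ⁻¹ᵁ N : V₀.toScheme.Opens) : Set V₀.toScheme) :=
      (hN.preimage_of_isOpenImmersion V₀.ι (by rw [Scheme.Opens.opensRange_ι]; exact hle.trans inf_le_right)).isCompact
    have hM := (q.resLE V₀ W e).isCompact_preimage hN'
    refine ⟨N, W.ι ''ᵁ (q.resLE V₀ W e ⁻¹ᵁ (V₀.ι ⁻¹ᵁ N)), hyN, ?_, hle.trans inf_le_left, ?_⟩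
    · exact hM.image W.ι.continuous
    · have hc : ∀ z, q (W.ι z) = V₀.ι (q.resLE V₀ W e z) := fun z =>
        (congrArg (fun f : W.toScheme ⟶ Y => f z) (Scheme.Hom.resLE_comp_ι q e)).symm
      ext x
      constructor
      · rintro ⟨_, ⟨z, hz, rfl⟩, rfl⟩
        refine Eq.mpr (congrArg (· ∈ (N : Set Y)) (hc z)) ?_
        exact hz
      · intro hx
        obtain ⟨z, hz⟩ := (q.resLE V₀ W e).surjective ⟨x, (hle hx).2⟩
        refine ⟨W.ι z, ⟨z, ?_, rfl⟩, ?_⟩
        · show V₀.ι (q.resLE V₀ W e z) ∈ N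
          rw [hz]
          exact hx
        · rw [hc, hz]
          rfl
  choose N M hyN hM hNV hMN using h
  obtain ⟨t, ht⟩ := hV.elim_finite_subcover (fun y : (V : Set Y) => (N y.1 y.2 : Set Y)) (fun y => (N y.1 y.2).isOpen)
    (fun y hy => Set.mem_iUnion.2 ⟨⟨y, hy⟩, hyN y hy⟩)
  refine ⟨⨆ y ∈ t, M y.1 y.2, ?_, ?_⟩
  · simp only [TopologicalSpace.Opens.coe_iSup]
    exact t.isCompact_biUnion fun y _ => hM y.1 y.2
  · simp only [TopologicalSpace.Opens.coe_iSup, Set.image_iUnion, hMN]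
    exact Set.Subset.antisymm (Set.iUnion₂_subset fun y _ => hNV y.1 y.2) ht

theorem singleton_mem_fpqc (hq : IsFpqcCov q) : Presieve.singleton q ∈ Scheme.fpqcPrecoverage Y := by
  refine ⟨?_, ?_⟩
  · rw [← PreZeroHypercover.presieve₀_singleton.{_, _, 0}, Scheme.presieve₀_mem_qcPrecoverage_iff]
    refine ⟨fun {U} hU => ?_⟩
    obtain ⟨W, hW, hWU⟩ := exists_compact_over hq hU.isCompact
    rw [← hWU]
    exact ⟨{PUnit.unit}, Set.finite_singleton _, fun _ _ => W, fun _ _ => hW, by ext; simp only [Set.mem_iUnion]; exact ⟨fun ⟨_, _, h⟩ => h, fun h => ⟨_, rfl, h⟩⟩⟩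
  · rw [Scheme.singleton_mem_precoverage_iff]
    exact ⟨hq.surjective.surj, hq.1⟩

/-- open sets descend along fpqc coverings -/
theorem isOpen_of_cov (hq : IsFpqcCov q) (O : Set Y) (h : IsOpen (q ⁻¹' O)) : IsOpen O := by
  rw [isOpen_iff_forall_mem_open]
  intro y hy
  obtain ⟨V, hyV, hV, W, e, hW, ⟨⟨hs, hfl⟩, hqc⟩⟩ := hq.exists_resLE y
  have hc : q.resLE V W e ⁻¹' (V.ι ⁻¹' O) = W.ι ⁻¹' (q ⁻¹' O) :=
    Set.ext fun z => iff_of_eq (congrArg (fun f : W.toScheme ⟶ Y => f z ∈ O) (Scheme.Hom.resLE_comp_ι q e))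
  have h1 : IsOpen (V.ι ⁻¹' O) := by
    rw [← (Flat.isQuotientMap_of_surjective (q.resLE V W e)).isOpen_preimage, hc]
    exact h.preimage W.ι.continuous
  exact ⟨V.ι '' (V.ι ⁻¹' O), Set.image_preimage_subset _ _, V.ι.isOpenEmbedding.isOpenMap _ h1, ⟨y, hyV⟩, hy, rfl⟩

variable {S : Scheme.{u}}

instance : (QuotSh.J Scheme.fpqcPrecoverage S).Subcanonical :=
  GrothendieckTopology.subcanonical_over Scheme.fpqcTopology S

instance : (QuotSh.J Scheme.fppfPrecoverage S).Subcanonical :=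
  GrothendieckTopology.subcanonical_over Scheme.fppfTopology S

/-- an fpqc covering generates a covering sieve -/
theorem mem_J_of_cov {T' T : Over S} (f : T' ⟶ T) (hf : IsFpqcCov f.left) {C : Sieve T} (hC : C f) :
    C ∈ QuotSh.J Scheme.fpqcPrecoverage S T := by
  rw [GrothendieckTopology.mem_over_iff]
  refine GrothendieckTopology.superset_covering _ ?_
    (Precoverage.generate_mem_toGrothendieck (singleton_mem_fpqc hf))
  rintro W g ⟨W', a, b, ⟨⟩, hab⟩
  rw [Sieve.overEquiv_iff]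
  have e : (Over.homMk g : Over.mk (g ≫ T.hom) ⟶ T) =
      (Over.homMk a (by show a ≫ T'.hom = g ≫ T.hom; rw [← hab, Category.assoc, Over.w]) :
        Over.mk (g ≫ T.hom) ⟶ T') ≫ f := Over.OverMorphism.ext hab.symm
  rw [e]
  exact C.downward_closed hC _

theorem eq_of_cov {F : QuotSh.Sh Scheme.fpqcPrecoverage S} {T' T : Over S} (f : T' ⟶ T) (hf : IsFpqcCov f.left)
    {a b : QuotSh.rep Scheme.fpqcPrecoverage T ⟶ F}
    (h : QuotSh.repMap Scheme.fpqcPrecoverage f ≫ a = QuotSh.repMap Scheme.fpqcPrecoverage f ≫ b) : a = b := by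
  refine eq_of_cover (mem_J_of_cov f hf (C := Sieve.generate (Presieve.singleton f)) ⟨_, 𝟙 _, f, ⟨⟩, Category.id_comp f⟩) ?_
  rintro W g ⟨W', a', b', ⟨⟩, rfl⟩
  rw [repMap_comp, Category.assoc, Category.assoc, h]

theorem exists_lift_of_cov {T' T Z X : Over S} (f : T' ⟶ T) (hf : IsFpqcCov f.left) (i : Z ⟶ X) [Mono i] (z : T ⟶ X)
    (w : T' ⟶ Z) (hw : w ≫ i = f ≫ z) : ∃ w, w ≫ i = z := by
  refine exists_lift_of_cover i z
    (mem_J_of_cov f hf (C := Sieve.generate (Presieve.singleton f)) ⟨_, 𝟙 _, f, ⟨⟩, Category.id_comp f⟩) ?_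
  rintro W g ⟨W', a', b', ⟨⟩, rfl⟩
  exact ⟨a' ≫ w, by rw [Category.assoc, hw, Category.assoc]⟩

/-- an open cover gives a covering sieve -/
theorem mem_J_of_openCover {T : Over S} (𝒰 : T.left.OpenCover) {C : Sieve T}
    (hC : ∀ i, C (Over.homMk (𝒰.f i) : Over.mk (𝒰.f i ≫ T.hom) ⟶ T)) :
    C ∈ QuotSh.J Scheme.fpqcPrecoverage S T := by
  rw [GrothendieckTopology.mem_over_iff]
  refine GrothendieckTopology.superset_covering _ ?_
    (Scheme.zariskiTopology_le_fpqcTopology _ 𝒰.mem_grothendieckTopology)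
  rintro W g ⟨W', a, b, ⟨i⟩, hab⟩
  rw [Sieve.overEquiv_iff]
  have e : (Over.homMk g : Over.mk (g ≫ T.hom) ⟶ T) =
      (Over.homMk a (by show a ≫ 𝒰.f i ≫ T.hom = g ≫ T.hom; rw [← hab, Category.assoc]) :
        Over.mk (g ≫ T.hom) ⟶ Over.mk (𝒰.f i ≫ T.hom)) ≫ Over.homMk (𝒰.f i) := Over.OverMorphism.ext hab.symm
  rw [e]
  exact C.downward_closed (hC i) _

variable {R U : Over S} (s t : R ⟶ U)

/-- every section of the fpqc quotient sheaf lifts along one fpqc covering -/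
theorem exists_global_lift {T : Over S}
    (σ : QuotSh.rep Scheme.fpqcPrecoverage T ⟶ QuotSh.quot Scheme.fpqcPrecoverage s t) :
    ∃ (T' : Over S) (f : T' ⟶ T) (u : T' ⟶ U), IsFpqcCov f.left ∧
      cl s t Scheme.fpqcPrecoverage u = QuotSh.repMap Scheme.fpqcPrecoverage f ≫ σ := by
  obtain ⟨C, hC, hl⟩ := exists_cover_lift s t σ
  have hC' : Sieve.overEquiv T C ∈ Scheme.fpqcPrecoverage.toGrothendieck T.left := hC
  rw [Precoverage.mem_toGrothendieck_iff_of_isStableUnderComposition] at hC'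
  obtain ⟨R', hR', hle⟩ := hC'
  obtain ⟨ι, Tι, g, rfl⟩ := R'.exists_eq_ofArrows
  haveI : QuasiCompactCover (⟨ι, Tι, g⟩ : PreZeroHypercover T.left) := Scheme.presieve₀_mem_qcPrecoverage_iff.1 hR'.1
  have hflat : ∀ i, Flat (g i) := ((Scheme.ofArrows_mem_precoverage_iff _).1 hR'.2).2
  have hW : ∀ W : T.left.affineOpens, ∃ (n : ℕ) (a : Fin n → ι) (V : ∀ l, (Tι (a l)).Opens),
      (∀ l, IsAffineOpen (V l)) ∧ ⋃ l, g (a l) '' (V l : Set (Tι (a l))) = (W.1 : Set T.left) := fun W =>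
    QuasiCompactCover.exists_isAffineOpen_of_isCompact (⟨ι, Tι, g⟩ : PreZeroHypercover T.left) W.2.isCompact
  choose n a V hV hVW using hW
  let κ : Type u := Σ W : T.left.affineOpens, ULift.{u} (Fin (n W))
  let P : κ → Scheme.{u} := fun k => (V k.1 k.2.down).toScheme
  let b : ∀ k, P k ⟶ T.left := fun k => (V k.1 k.2.down).ι ≫ g (a k.1 k.2.down)
  haveI : ∀ k, Flat (b k) := fun k => by haveI := hflat (a k.1 k.2.down); exact inferInstanceAs (Flat ((V k.1 k.2.down).ι ≫ g _))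
  let d : (∐ P) ⟶ T.left := Sigma.desc b
  haveI : Flat d := IsZariskiLocalAtSource.sigmaDesc fun k => inferInstance
  have hd : ∀ k (y : P k), d (Sigma.ι P k y) = b k y := fun k y => by rw [← Scheme.Hom.comp_apply, Sigma.ι_desc]
  have hcov : IsFpqcCov d := by
    refine IsFpqcCov.of_forall d fun W hW' => ?_
    let w : T.left.affineOpens := ⟨W, hW'⟩
    refine ⟨⨆ l : Fin (n w), (Sigma.ι P ⟨w, ⟨l⟩⟩).opensRange, ?_, ?_⟩
    · simp only [TopologicalSpace.Opens.coe_iSup]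
      refine isCompact_iUnion fun l => ?_
      haveI : IsAffine (P ⟨w, ⟨l⟩⟩) := hV w l
      exact isCompact_range (Sigma.ι P ⟨w, ⟨l⟩⟩).continuous
    · refine Eq.trans ?_ (hVW w)
      simp only [TopologicalSpace.Opens.coe_iSup, Set.image_iUnion]
      refine Set.iUnion_congr fun l => ?_
      refine Eq.trans ?_ (congrArg (g (a w l) '' ·) (V w l).range_ι)
      rw [Scheme.Hom.coe_opensRange, ← Set.range_comp, ← Set.range_comp]
      exact congrArg Set.range (funext fun y => hd ⟨w, ⟨l⟩⟩ y)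
  let T' : Over S := Over.mk (d ≫ T.hom)
  let f : T' ⟶ T := Over.homMk d
  let j : ∀ k, Over.mk (b k ≫ T.hom) ⟶ T' := fun k =>
    Over.homMk (Sigma.ι P k) (by show Sigma.ι P k ≫ d ≫ T.hom = _; rw [Sigma.ι_desc_assoc]; rfl)
  have hCk : ∀ k, C (Over.homMk (b k) : Over.mk (b k ≫ T.hom) ⟶ T) := fun k => by
    have h1 := (Sieve.overEquiv T C).downward_closed (hle _ _ (Presieve.ofArrows.mk (a k.1 k.2.down))) (V k.1 k.2.down).ι
    exact (Sieve.overEquiv_iff C _).1 h1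
  choose x hx using fun k => hl _ (hCk k)
  let u : T' ⟶ U := Over.homMk (Sigma.desc fun k => (x k).left) (Sigma.hom_ext _ _ fun k => by
    rw [Sigma.ι_desc_assoc, Over.w (x k)]
    show b k ≫ T.hom = Sigma.ι P k ≫ d ≫ T.hom
    rw [Sigma.ι_desc_assoc])
  have hj : ∀ k, j k ≫ f = Over.homMk (b k) := fun k => Over.OverMorphism.ext (Sigma.ι_desc _ _)
  have hu : ∀ k, j k ≫ u = x k := fun k => Over.OverMorphism.ext (Sigma.ι_desc _ _)
  refine ⟨T', f, u, hcov, eq_of_cover (mem_J_of_openCover (T := T') (sigmaOpenCover P)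
    (C := Sieve.generate (Presieve.ofArrows _ j)) fun k => ⟨Over.mk (b k ≫ T.hom), Over.homMk (𝟙 (P k)) (by
      show 𝟙 _ ≫ b k ≫ T.hom = Sigma.ι P k ≫ d ≫ T.hom
      rw [Category.id_comp, Sigma.ι_desc_assoc]), j k, ⟨k⟩, Over.OverMorphism.ext (Category.id_comp _)⟩) ?_⟩
  rintro W g' ⟨W', a', b', ⟨k⟩, rfl⟩
  have e : QuotSh.repMap Scheme.fpqcPrecoverage (j k) ≫ cl s t Scheme.fpqcPrecoverage u =
      QuotSh.repMap Scheme.fpqcPrecoverage (j k) ≫ QuotSh.repMap Scheme.fpqcPrecoverage f ≫ σ := by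
    rw [← cl_comp, hu, hx, ← Category.assoc, ← repMap_comp, hj]
  rw [repMap_comp]
  exact (Category.assoc _ _ _).trans ((congrArg _ e).trans (Category.assoc _ _ _).symm)

end Groth.Agent.GrpQFpqc
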