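import Groth.Agent.GrpQFpqc.Cover

/-!
# The locus of points of the cover lying over a section of the quotient sheaf
-/

set_option autoImplicit false
set_option backward.isDefEq.respectTransparency.types false
set_option linter.style.haveILetI false

universe u

open CategoryTheory CategoryTheory.Limits MonoidalCategory CartesianMonoidalCategory AlgebraicGeometry
open Groth.Agent.SGA3cLib

noncomputable section

namespace Groth.Agent.GrpQFpqc

local notation "fq" => Scheme.fpqcPrecoverage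

theorem isPullback_whisker {C : Type*} [Category C] [CartesianMonoidalCategory C] (U : C) {T' T : C} (f : T' ⟶ T) :
    IsPullback (U ◁ f) (snd U T') (snd U T) f := by
  refine ⟨⟨whiskerLeft_snd _ _⟩, ⟨PullbackCone.IsLimit.mk (whiskerLeft_snd _ _)
    (fun c => lift (c.fst ≫ fst U T) c.snd) (fun c => ?_) (fun c => lift_snd _ _) (fun c l h1 h2 => ?_)⟩⟩
  · apply CartesianMonoidalCategory.hom_ext
    · rw [Category.assoc, whiskerLeft_fst, lift_fst]
    · rw [Category.assoc, whiskerLeft_snd, lift_snd_assoc, c.condition]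
  · apply CartesianMonoidalCategory.hom_ext
    · rw [lift_fst, ← h1, Category.assoc, whiskerLeft_fst]
    · rw [lift_snd, h2]

theorem isFpqcCov_of_fpqc {X Y : Scheme.{u}} (q : X ⟶ Y) [Flat q] [Surjective q] [QuasiCompact q] : IsFpqcCov q :=
  IsFpqcCov.of_forall q fun V hV =>
    ⟨q ⁻¹ᵁ V, q.isCompact_preimage hV.isCompact, Set.image_preimage_eq _ q.surjective⟩

theorem isFpqcCov_of_isPullback {P X Y Y' : Scheme.{u}} {a : P ⟶ X} {b : P ⟶ Y'} {q : X ⟶ Y} {g : Y' ⟶ Y}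
    (h : IsPullback a b q g) (hq : IsFpqcCov q) : IsFpqcCov b := by
  have h' := hq.pullback_snd g
  rw [← h.isoPullback_hom_snd]
  haveI := h'.1
  refine ⟨inferInstance, fun y => ?_⟩
  obtain ⟨V, hyV, hV, W, hW, hWV⟩ := h'.2 y
  refine ⟨V, hyV, hV, h.isoPullback.hom ⁻¹ᵁ W, h.isoPullback.hom.isCompact_preimage hW, ?_⟩
  rw [Scheme.Hom.comp_base, TopCat.coe_comp, Set.image_comp]
  exact (congrArg _ (Set.image_preimage_eq _ h.isoPullback.hom.surjective)).trans hWV

variable {S : Scheme.{u}} {R U : Over S} {s t : R ⟶ U} {T : Over S}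
  (σ : QuotSh.rep fq T ⟶ QuotSh.quot fq s t)

/-- a point of `U × T` whose class is the given section -/
def Pt {W : Over S} (z : W ⟶ U ⊗ T) : Prop :=
  cl s t fq (z ≫ fst U T) = QuotSh.repMap fq (z ≫ snd U T) ≫ σ

variable {σ}

theorem Pt.comp {W W' : Over S} {z : W ⟶ U ⊗ T} (h : Pt σ z) (g : W' ⟶ W) : Pt σ (g ≫ z) := by
  unfold Pt at h ⊢
  rw [Category.assoc, Category.assoc, cl_comp, h, repMap_comp g, Category.assoc]

theorem Pt.of_cov {W W' : Over S} {z : W ⟶ U ⊗ T} (g : W' ⟶ W) (hg : IsFpqcCov g.left) (h : Pt σ (g ≫ z)) :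
    Pt σ z := by
  refine eq_of_cov g hg ?_
  unfold Pt at h
  rw [Category.assoc, Category.assoc, cl_comp] at h
  refine h.trans ?_
  rw [repMap_comp, Category.assoc]

theorem Pt.of_openCover {W : Over S} {z : W ⟶ U ⊗ T} (𝒰 : W.left.OpenCover)
    (h : ∀ i, Pt σ ((Over.homMk (𝒰.f i) : Over.mk (𝒰.f i ≫ W.hom) ⟶ W) ≫ z)) : Pt σ z := by
  refine eq_of_cover (mem_J_of_openCover 𝒰 (C := Sieve.generate (Presieve.ofArrows _
    fun i => (Over.homMk (𝒰.f i) : Over.mk (𝒰.f i ≫ W.hom) ⟶ W)))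
    fun i => ⟨_, 𝟙 _, _, ⟨i⟩, Category.id_comp _⟩) ?_
  rintro W' g ⟨W'', a, b, ⟨i⟩, rfl⟩
  have hi := h i
  unfold Pt at hi
  rw [Category.assoc, Category.assoc, cl_comp, repMap_comp, Category.assoc] at hi
  rw [repMap_comp]
  exact (Category.assoc _ _ _).trans ((congrArg _ hi).trans (Category.assoc _ _ _).symm)

variable (σ) in
/-- the predicate on scheme points -/
def PtS {W : Scheme.{u}} (x : W ⟶ (U ⊗ T).left) : Prop :=
  Pt σ (Over.homMk x : Over.mk (x ≫ (U ⊗ T).hom) ⟶ U ⊗ T)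

theorem pt_iff {W : Over S} (z : W ⟶ U ⊗ T) : Pt σ z ↔ PtS σ z.left := by
  let a : W ⟶ Over.mk (z.left ≫ (U ⊗ T).hom) := Over.homMk (𝟙 W.left) ((Category.id_comp _).trans (Over.w z))
  let b : Over.mk (z.left ≫ (U ⊗ T).hom) ⟶ W := Over.homMk (𝟙 W.left) ((Category.id_comp _).trans (Over.w z).symm)
  let c : Over.mk (z.left ≫ (U ⊗ T).hom) ⟶ U ⊗ T := Over.homMk z.left rfl
  constructor
  · intro h
    have hb : b ≫ z = c := Over.OverMorphism.ext (Category.id_comp z.left)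
    have := h.comp b
    rw [hb] at this
    exact this
  · intro h
    have ha : a ≫ c = z := Over.OverMorphism.ext (Category.id_comp z.left)
    have h' : Pt σ c := h
    have := h'.comp a
    rw [ha] at this
    exact this

theorem PtS.comp {W W' : Scheme.{u}} {x : W ⟶ (U ⊗ T).left} (h : PtS σ x) (g : W' ⟶ W) : PtS σ (g ≫ x) := by
  have := (pt_iff _).1 (Pt.comp h (Over.homMk g : Over.mk (g ≫ x ≫ (U ⊗ T).hom) ⟶ Over.mk (x ≫ (U ⊗ T).hom)))
  exact this

theorem PtS.of_cov {W W' : Scheme.{u}} {x : W ⟶ (U ⊗ T).left} (g : W' ⟶ W) (hg : IsFpqcCov g) (h : PtS σ (g ≫ x)) :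
    PtS σ x :=
  Pt.of_cov (Over.homMk g : Over.mk (g ≫ x ≫ (U ⊗ T).hom) ⟶ Over.mk (x ≫ (U ⊗ T).hom)) hg ((pt_iff _).2 h)

theorem PtS.of_openCover {W : Scheme.{u}} {x : W ⟶ (U ⊗ T).left} (𝒰 : W.OpenCover) (h : ∀ i, PtS σ (𝒰.f i ≫ x)) :
    PtS σ x :=
  Pt.of_openCover (W := Over.mk (x ≫ (U ⊗ T).hom)) 𝒰 fun i => (pt_iff _).2 (h i)

section rel

variable [IsEquivalenceRelation s t] [Mono (lift t s)]

/-- the locus after an fpqc covering of the base on which the section lifts -/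
theorem pt_chart {T' : Over S} (f : T' ⟶ T) (u : T' ⟶ U) (hu : cl s t fq u = QuotSh.repMap fq f ≫ σ)
    {W : Over S} (y : W ⟶ U ⊗ T') : Pt σ (y ≫ U ◁ f) ↔ ∃ r : W ⟶ R, r ≫ lift t s = y ≫ U ◁ u := by
  unfold Pt
  rw [Category.assoc, Category.assoc, whiskerLeft_fst, whiskerLeft_snd, ← Category.assoc y, repMap_comp,
    Category.assoc, ← hu, ← cl_comp]
  constructor
  · intro h
    obtain ⟨r, h1, h2⟩ := ptRel_of_cl_eq s t _ _ h
    refine ⟨r, ?_⟩
    apply CartesianMonoidalCategory.hom_ext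
    · rw [Category.assoc, lift_fst, Category.assoc, whiskerLeft_fst, h1]
    · rw [Category.assoc, lift_snd, Category.assoc, whiskerLeft_snd, h2, Category.assoc]
  · rintro ⟨r, hr⟩
    have h1 := congrArg (· ≫ fst U U) hr
    have h2 := congrArg (· ≫ snd U U) hr
    simp only [Category.assoc, lift_fst, lift_snd, whiskerLeft_fst, whiskerLeft_snd] at h1 h2
    rw [← h1, Category.assoc, ← h2]
    exact cl_eq_of_rel s t r

/-- a monomorphism representing the locus -/
structure Rep (σ : QuotSh.rep fq T ⟶ QuotSh.quot fq s t) {Z : Over S} (i : Z ⟶ U ⊗ T) : Prop where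
  mono : Mono i
  iff : ∀ {W : Over S} (z : W ⟶ U ⊗ T), Pt σ z ↔ ∃ w, w ≫ i = z

namespace Rep

variable {Z : Over S} {i : Z ⟶ U ⊗ T}

theorem eq (h : Rep σ i) :
    QuotSh.repMap fq (i ≫ fst U T) ≫ QuotSh.quotπ fq s t = QuotSh.repMap fq (i ≫ snd U T) ≫ σ :=
  (h.iff i).2 ⟨𝟙 Z, Category.id_comp i⟩

theorem stable (h : Rep σ i) (W : Over S) (r : W ⟶ R ⊗ T) :
    (∃ z : W ⟶ Z, z ≫ i = r ≫ (s ▷ T)) ↔ (∃ z : W ⟶ Z, z ≫ i = r ≫ (t ▷ T)) := by
  rw [← h.iff, ← h.iff]
  unfold Pt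
  simp only [Category.assoc, whiskerRight_fst, whiskerRight_snd]
  rw [← Category.assoc r, ← Category.assoc r, cl_eq_of_rel]

theorem related (h : Rep σ i) (W : Over S) (z₁ z₂ : W ⟶ Z) (e : z₁ ≫ i ≫ snd U T = z₂ ≫ i ≫ snd U T) :
    ∃ r : W ⟶ R, r ≫ s = z₁ ≫ i ≫ fst U T ∧ r ≫ t = z₂ ≫ i ≫ fst U T := by
  have h1 := (h.iff (z₁ ≫ i)).2 ⟨z₁, rfl⟩
  have h2 := (h.iff (z₂ ≫ i)).2 ⟨z₂, rfl⟩
  unfold Pt at h1 h2
  simp only [Category.assoc] at h1 h2
  rw [← e, ← h1] at h2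
  obtain ⟨r, hr1, hr2⟩ := ptRel_of_cl_eq s t _ _ h2
  exact ⟨r, hr2, hr1⟩

/-- properties of `s` which descend pass to the projection of the locus -/
theorem property (h : Rep σ i) (P : MorphismProperty Scheme.{u}) [IsZariskiLocalAtTarget P]
    [P.IsStableUnderBaseChange] [P.DescendsAlong (@Surjective ⊓ @Flat ⊓ @QuasiCompact)] (hs : P s.left) :
    P (i ≫ snd U T).left := by
  obtain ⟨T', f, u, hf, hu⟩ := exists_global_lift s t σ
  haveI := h.mono
  let Z' := pullback (lift t s) (U ◁ u)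
  let i' : Z' ⟶ U ⊗ T' := pullback.snd (lift t s) (U ◁ u)
  obtain ⟨g, hg⟩ := (h.iff (i' ≫ U ◁ f)).1 ((pt_chart f u hu i').2 ⟨_, pullback.condition⟩)
  have sq1 : IsPullback g i' i (U ◁ f) := by
    have hex : ∀ c : PullbackCone i (U ◁ f), ∃ r : c.pt ⟶ R, r ≫ lift t s = c.snd ≫ U ◁ u := fun c =>
      (pt_chart f u hu c.snd).1 ((h.iff _).2 ⟨c.fst, c.condition⟩)
    choose r hr using hex
    refine ⟨⟨hg⟩, ⟨PullbackCone.IsLimit.mk hg (fun c => pullback.lift (r c) c.snd (hr c)) (fun c => ?_)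
      (fun c => pullback.lift_snd _ _ _) (fun c l h1 h2 => ?_)⟩⟩
    · rw [← cancel_mono i, Category.assoc, hg, ← Category.assoc, c.condition]
      exact congrArg (· ≫ U ◁ f) (pullback.lift_snd _ _ _)
    · apply pullback.hom_ext
      · rw [pullback.lift_fst, ← cancel_mono (lift t s), hr, ← h2, Category.assoc, Category.assoc, pullback.condition]
      · rw [pullback.lift_snd, h2]
  have sq2 : IsPullback g (i' ≫ snd U T') (i ≫ snd U T) f := sq1.paste_vert (isPullback_whisker U f)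
  have sq3 : IsPullback (pullback.fst (lift t s) (U ◁ u)) (i' ≫ snd U T') (lift t s ≫ snd U U) u :=
    (IsPullback.of_hasPullback (lift t s) (U ◁ u)).paste_vert (isPullback_whisker U u)
  rw [lift_snd] at sq3
  have h1 : P (i' ≫ snd U T').left := MorphismProperty.of_isPullback (sq3.map (Over.forget S)) hs
  have sq4 : IsPullback g.left (i' ≫ snd U T').left (i ≫ snd U T).left f.left := sq2.map (Over.forget S)
  refine hf.descend P _ ?_
  rw [← sq4.isoPullback_inv_snd]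
  exact (MorphismProperty.cancel_left_of_respectsIso P _ _).2 h1

/-- two representing monomorphisms are isomorphic -/
theorem exists_iso (h : Rep σ i) {Z' : Over S} {i' : Z' ⟶ U ⊗ T} (h' : Rep σ i') :
    ∃ e : Z ≅ Z', e.hom ≫ i' = i := by
  obtain ⟨a, ha⟩ := (h'.iff i).1 ((h.iff i).2 ⟨𝟙 Z, Category.id_comp i⟩)
  obtain ⟨b, hb⟩ := (h.iff i').1 ((h'.iff i').2 ⟨𝟙 Z', Category.id_comp i'⟩)
  haveI := h.mono
  haveI := h'.mono
  exact ⟨⟨a, b, by rw [← cancel_mono i, Category.assoc, hb, ha, Category.id_comp],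
    by rw [← cancel_mono i', Category.assoc, ha, hb, Category.id_comp]⟩, ha⟩

/-- a stable sub-object of the locus, covering the base, is the locus -/
theorem of_stable {Z : Over S} (i : Z ⟶ U ⊗ T) [Mono i]
    (hst : ∀ (T' : Over S) (r : T' ⟶ R ⊗ T),
      (∃ z : T' ⟶ Z, z ≫ i = r ≫ (s ▷ T)) ↔ (∃ z : T' ⟶ Z, z ≫ i = r ≫ (t ▷ T)))
    [Flat (i ≫ snd U T).left] [Surjective (i ≫ snd U T).left] [QuasiCompact (i ≫ snd U T).left]
    (heq : QuotSh.repMap fq (i ≫ fst U T) ≫ QuotSh.quotπ fq s t = QuotSh.repMap fq (i ≫ snd U T) ≫ σ) :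
    Rep σ i := by
  refine ⟨inferInstance, fun {W} z => ⟨fun hz => ?_, ?_⟩⟩
  · let q := i ≫ snd U T
    let f := pullback.snd q (z ≫ snd U T)
    let w := pullback.fst q (z ≫ snd U T)
    have hf : IsFpqcCov f.left := isFpqcCov_of_isPullback
      ((IsPullback.of_hasPullback q (z ≫ snd U T)).map (Over.forget S)) (isFpqcCov_of_fpqc q.left)
    have hw : w ≫ q = f ≫ z ≫ snd U T := pullback.condition
    have h1 := (Pt.comp (σ := σ) (z := i) heq w)
    have h2 := hz.comp f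
    unfold Pt at h1 h2
    simp only [Category.assoc] at h1 h2
    rw [show w ≫ i ≫ snd U T = f ≫ z ≫ snd U T from hw, ← h2] at h1
    obtain ⟨r, hr1, hr2⟩ := ptRel_of_cl_eq s t _ _ h1.symm
    have h3 : lift r (f ≫ z ≫ snd U T) ≫ (s ▷ T) = w ≫ i := by
      apply CartesianMonoidalCategory.hom_ext
      · rw [Category.assoc, whiskerRight_fst, lift_fst_assoc, hr2, Category.assoc]
      · rw [Category.assoc, whiskerRight_snd, lift_snd, Category.assoc, ← hw]
    have h4 : lift r (f ≫ z ≫ snd U T) ≫ (t ▷ T) = f ≫ z := by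
      apply CartesianMonoidalCategory.hom_ext
      · rw [Category.assoc, whiskerRight_fst, lift_fst_assoc, hr1, Category.assoc]
      · rw [Category.assoc, whiskerRight_snd, lift_snd, Category.assoc]
    obtain ⟨w', hw'⟩ := (hst _ _).1 ⟨w, h3.symm⟩
    exact exists_lift_of_cov f hf i z w' (hw'.trans h4)
  · rintro ⟨w, rfl⟩
    exact Pt.comp (σ := σ) (z := i) heq w

end Rep

end rel

end Groth.Agent.GrpQFpqc
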