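import Groth.Agent.GrpQFpqc.Locus

/-!
# The locus of a section is open when the graph is open
-/

set_option autoImplicit false
set_option backward.isDefEq.respectTransparency.types false
set_option linter.style.haveILetI false

universe u

open CategoryTheory CategoryTheory.Limits MonoidalCategory CartesianMonoidalCategory AlgebraicGeometry
open Groth.Agent.SGA3cLib

noncomputable section

namespace Groth.Agent.GrpQFpqc

local notation "fq" => Scheme.fpqcPrecoverage

variable {S : Scheme.{u}} {R U : Over S} {s t : R ⟶ U} {T : Over S}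
  (σ : QuotSh.rep fq T ⟶ QuotSh.quot fq s t)

theorem exists_rep_open [IsEquivalenceRelation s t] (hc : IsOpenImmersion (lift t s).left) :
    ∃ (Z : Over S) (i : Z ⟶ U ⊗ T), IsOpenImmersion i.left ∧ Rep σ i := by
  haveI := hc
  haveI : Mono (lift t s) := Over.mono_of_mono_left _
  obtain ⟨T', f, u, hf, hu⟩ := exists_global_lift s t σ
  let g : (U ⊗ T').left ⟶ (U ⊗ T).left := (U ◁ f).left
  have hg : IsFpqcCov g := isFpqcCov_of_isPullback (((isPullback_whisker U f).map (Over.forget S)).flip) hf
  let i' : pullback (lift t s) (U ◁ u) ⟶ U ⊗ T' := pullback.snd (lift t s) (U ◁ u)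
  have hi'sq : IsPullback (pullback.fst (lift t s) (U ◁ u)).left i'.left (lift t s).left (U ◁ u).left :=
    (IsPullback.of_hasPullback (lift t s) (U ◁ u)).map (Over.forget S)
  haveI : IsOpenImmersion i'.left :=
    MorphismProperty.of_isPullback (P := @IsOpenImmersion) hi'sq hc
  let O : Set (U ⊗ T).left := {x | PtS σ ((U ⊗ T).left.fromSpecResidueField x)}
  -- the chart criterion on scheme points
  have hchart : ∀ {W : Scheme.{u}} (y : W ⟶ (U ⊗ T').left),
      PtS σ (y ≫ g) ↔ Set.range y ⊆ Set.range i'.left := by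
    intro W y
    let y' : Over.mk (y ≫ (U ⊗ T').hom) ⟶ U ⊗ T' := Over.homMk y
    have h1 : PtS σ (y ≫ g) ↔ ∃ r : Over.mk (y ≫ (U ⊗ T').hom) ⟶ R, r ≫ lift t s = y' ≫ U ◁ u := by
      rw [← pt_chart f u hu y', pt_iff]
      rfl
    rw [h1]
    constructor
    · rintro ⟨r, hr⟩
      have := congrArg (fun k => Over.Hom.left k) (pullback.lift_snd r y' hr)
      rw [show y = (pullback.lift r y' hr).left ≫ i'.left from this.symm]
      rintro _ ⟨w, rfl⟩
      exact ⟨_, rfl⟩
    · intro h
      let l := IsOpenImmersion.lift i'.left y h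
      have hl : l ≫ i'.left = y := IsOpenImmersion.lift_fac _ _ _
      let l' : Over.mk (y ≫ (U ⊗ T').hom) ⟶ pullback (lift t s) (U ◁ u) := Over.homMk l (by
        show l ≫ _ = y ≫ _
        rw [← Over.w i', ← Category.assoc, hl])
      have hl' : l' ≫ i' = y' := Over.OverMorphism.ext hl
      exact ⟨l' ≫ pullback.fst _ _, by rw [Category.assoc, pullback.condition, ← Category.assoc, hl']⟩
  have hres : ∀ y, g y ∈ O ↔ y ∈ Set.range i'.left := by
    intro y
    have e : (U ⊗ T').left.fromSpecResidueField y ≫ g =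
        Spec.map (g.residueFieldMap y) ≫ (U ⊗ T).left.fromSpecResidueField (g y) :=
      (g.SpecMap_residueFieldMap_fromSpecResidueField y).symm
    have hsub : Subsingleton (Spec (CommRingCat.of ((U ⊗ T).left.residueField (g y)))) :=
      inferInstanceAs (Subsingleton (PrimeSpectrum ((U ⊗ T).left.residueField (g y))))
    haveI : Surjective (Spec.map (g.residueFieldMap y)) := ⟨fun p => ⟨IsLocalRing.closedPoint _, hsub.elim _ _⟩⟩
    haveI : Flat (Spec.map (g.residueFieldMap y)) := by
      rw [Flat.SpecMap_iff]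
      letI := (g.residueFieldMap y).hom.toAlgebra
      exact RingHom.flat_algebraMap_iff.2 inferInstance
    constructor
    · intro h
      have h' := PtS.comp h (Spec.map (g.residueFieldMap y))
      rw [← e, hchart, Scheme.range_fromSpecResidueField, Set.singleton_subset_iff] at h'
      exact h'
    · intro h
      refine PtS.of_cov _ (isFpqcCov_of_fpqc (Spec.map (g.residueFieldMap y))) ?_
      rw [← e, hchart, Scheme.range_fromSpecResidueField, Set.singleton_subset_iff]
      exact h
  have hO : IsOpen O := by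
    refine isOpen_of_cov hg O ?_
    have : g ⁻¹' O = Set.range i'.left := Set.ext hres
    rw [this]
    exact i'.left.isOpenEmbedding.isOpen_range
  let V : (U ⊗ T).left.Opens := ⟨O, hO⟩
  have hV : ∀ {W : Scheme.{u}} (x : W ⟶ (U ⊗ T).left), PtS σ x ↔ Set.range x ⊆ O := by
    intro W x
    have sq := IsPullback.of_hasPullback g x
    have hp : IsFpqcCov (pullback.snd g x) := isFpqcCov_of_isPullback sq hg
    constructor
    · rintro h _ ⟨w, rfl⟩
      obtain ⟨p, rfl⟩ := hp.surjective.surj w
      have h' := PtS.comp h (pullback.snd g x)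
      rw [← pullback.condition, hchart] at h'
      rw [← Scheme.Hom.comp_apply, ← pullback.condition, Scheme.Hom.comp_apply, hres]
      exact h' ⟨p, rfl⟩
    · intro h
      refine PtS.of_cov _ hp ?_
      rw [← pullback.condition, hchart]
      rintro _ ⟨p, rfl⟩
      rw [← hres, ← Scheme.Hom.comp_apply, pullback.condition]
      exact h ⟨_, rfl⟩
  let i : Over.mk (V.ι ≫ (U ⊗ T).hom) ⟶ U ⊗ T := Over.homMk V.ι
  haveI : IsOpenImmersion i.left := inferInstanceAs (IsOpenImmersion V.ι)
  refine ⟨_, i, inferInstance, Over.mono_of_mono_left _, fun {W} z => ?_⟩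
  rw [pt_iff, hV]
  constructor
  · intro h
    have h' : Set.range z.left ⊆ Set.range V.ι := by rw [V.range_ι]; exact h
    have hl := IsOpenImmersion.lift_fac V.ι z.left h'
    refine ⟨Over.homMk (IsOpenImmersion.lift V.ι z.left h') (by
      show IsOpenImmersion.lift V.ι z.left h' ≫ V.ι ≫ _ = _
      rw [reassoc_of% hl, Over.w]), Over.OverMorphism.ext hl⟩
  · rintro ⟨w, rfl⟩ _ ⟨p, rfl⟩
    exact (w.left p).2

end Groth.Agent.GrpQFpqc
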