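import Groth.Prelude.Def_QuotSh
import Mathlib.CategoryTheory.EquivalenceRelation
import Mathlib.CategoryTheory.Sites.EpiMono
import Mathlib.CategoryTheory.Sites.RegularEpi
import Mathlib.CategoryTheory.Monoidal.Cartesian.Over

/-!
# Sections of the quotient sheaf of an equivalence relation, for any topology on schemes over a base
-/

set_option autoImplicit false
set_option backward.isDefEq.respectTransparency.types false

universe u

open CategoryTheory CategoryTheory.Limits AlgebraicGeometry Opposite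

noncomputable section

namespace Groth.Agent.GrpQFpqc

variable {K : Precoverage Scheme.{u}} {S : Scheme.{u}}

/-- maps `h_T ⟶ F` are sections of `F` over `T` -/
def secEquiv (F : QuotSh.Sh K S) (T : Over S) : (QuotSh.rep K T ⟶ F) ≃ F.obj.obj (op T) :=
  ((sheafificationAdjunction (QuotSh.J K S) (Type (u + 1))).homEquiv (uliftYoneda.{u + 1}.obj T) F).trans
    uliftYonedaEquiv

theorem secEquiv_apply {F : QuotSh.Sh K S} {T : Over S} (a : QuotSh.rep K T ⟶ F) :
    secEquiv F T a = a.hom.app (op T) ((toSheafify (QuotSh.J K S) (uliftYoneda.{u + 1}.obj T)).app (op T)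
      (ULift.up (𝟙 T))) := rfl

theorem secEquiv_comp {F G : QuotSh.Sh K S} {T : Over S} (a : QuotSh.rep K T ⟶ F) (ψ : F ⟶ G) :
    secEquiv G T (a ≫ ψ) = ψ.hom.app (op T) (secEquiv F T a) := rfl

theorem secEquiv_repMap {T T' : Over S} (f : T' ⟶ T) :
    secEquiv (QuotSh.rep K T) T' (QuotSh.repMap K f) =
      (toSheafify (QuotSh.J K S) (uliftYoneda.{u + 1}.obj T)).app (op T') (ULift.up f) := by
  rw [secEquiv_apply]
  have h := congrArg (fun η => η.app (op T') (ULift.up (𝟙 T')))
    (toSheafify_naturality (QuotSh.J K S) (uliftYoneda.{u + 1}.map f))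
  refine h.symm.trans ?_
  exact congrArg (fun z => (toSheafify (QuotSh.J K S) (uliftYoneda.{u + 1}.obj T)).app (op T') (ULift.up z))
    (Category.id_comp f)

theorem secEquiv_naturality {F : QuotSh.Sh K S} {T T' : Over S} (f : T' ⟶ T) (a : QuotSh.rep K T ⟶ F) :
    secEquiv F T' (QuotSh.repMap K f ≫ a) = F.obj.map f.op (secEquiv F T a) := by
  rw [secEquiv_comp, secEquiv_repMap, secEquiv_apply]
  refine Eq.trans (congrArg (a.hom.app (op T')) ?_) (NatTrans.naturality_apply a.hom f.op _)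
  refine Eq.trans ?_ (NatTrans.naturality_apply (toSheafify (QuotSh.J K S) (uliftYoneda.{u + 1}.obj T)) f.op _)
  exact congrArg (fun z => (toSheafify (QuotSh.J K S) (uliftYoneda.{u + 1}.obj T)).app (op T') (ULift.up z))
    (Category.comp_id f).symm

/-- maps out of `h_T` which agree on a covering are equal -/
theorem eq_of_cover {F : QuotSh.Sh K S} {T : Over S} {a b : QuotSh.rep K T ⟶ F} {C : Sieve T}
    (hC : C ∈ QuotSh.J K S T)
    (h : ∀ ⦃T' : Over S⦄ (f : T' ⟶ T), C f → QuotSh.repMap K f ≫ a = QuotSh.repMap K f ≫ b) : a = b := by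
  apply (secEquiv F T).injective
  refine (Presieve.IsSheafFor.isSeparatedFor
    ((isSheaf_iff_isSheaf_of_type _ _).1 F.property C hC)).ext fun T' f hf => ?_
  rw [← secEquiv_naturality, ← secEquiv_naturality, h f hf]

/-- morphisms which agree on a covering are equal -/
theorem hom_ext_of_cover [(QuotSh.J K S).Subcanonical] {T Z : Over S} {a b : T ⟶ Z} {C : Sieve T}
    (hC : C ∈ QuotSh.J K S T) (h : ∀ ⦃T' : Over S⦄ (f : T' ⟶ T), C f → f ≫ a = f ≫ b) : a = b :=
  ((GrothendieckTopology.Subcanonical.isSheaf_of_isRepresentable (J := QuotSh.J K S) (yoneda.obj Z)) C hC).isSeparatedFor.ext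
    fun _ f hf => h f hf

/-- factorisations through a monomorphism glue -/
theorem exists_lift_of_cover [(QuotSh.J K S).Subcanonical] {T Z X : Over S} (i : Z ⟶ X) [Mono i] (z : T ⟶ X)
    {C : Sieve T} (hC : C ∈ QuotSh.J K S T) (h : ∀ ⦃T' : Over S⦄ (f : T' ⟶ T), C f → ∃ w, w ≫ i = f ≫ z) :
    ∃ w, w ≫ i = z := by
  let x : Presieve.FamilyOfElements (yoneda.obj Z) (C : Presieve T) := fun T' f hf => (h f hf).choose
  have hx : x.Compatible := fun Y₁ Y₂ W g₁ g₂ f₁ f₂ h₁ h₂ e => by
    show g₁ ≫ (h f₁ h₁).choose = g₂ ≫ (h f₂ h₂).choose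
    rw [← cancel_mono i, Category.assoc, Category.assoc, (h f₁ h₁).choose_spec, (h f₂ h₂).choose_spec,
      ← Category.assoc, e, Category.assoc]
  obtain ⟨w, hw, -⟩ :=
    (GrothendieckTopology.Subcanonical.isSheaf_of_isRepresentable (J := QuotSh.J K S) (yoneda.obj Z)) C hC x hx
  refine ⟨w, hom_ext_of_cover hC fun T' f hf => ?_⟩
  have e : f ≫ w = (h f hf).choose := hw f hf
  rw [← Category.assoc, e, (h f hf).choose_spec]

variable {R U : Over S} (s t : R ⟶ U)

/-- the section of `U/R` given by a point of `U` -/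
abbrev cl (K : Precoverage Scheme.{u}) {T : Over S} (x : T ⟶ U) : QuotSh.rep K T ⟶ QuotSh.quot K s t :=
  QuotSh.repMap K x ≫ QuotSh.quotπ K s t

theorem repMap_comp {T T' T'' : Over S} (f : T'' ⟶ T') (g : T' ⟶ T) :
    QuotSh.repMap K (f ≫ g) = QuotSh.repMap K f ≫ QuotSh.repMap K g := by
  show (presheafToSheaf _ _).map _ = _
  rw [yoneda.map_comp, Functor.whiskerRight_comp, Functor.map_comp]

theorem repMap_id (T : Over S) : QuotSh.repMap K (𝟙 T) = 𝟙 (QuotSh.rep K T) := by
  show (presheafToSheaf _ _).map (Functor.whiskerRight (yoneda.map (𝟙 T)) uliftFunctor.{u + 1, u}) = _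
  rw [show Functor.whiskerRight (yoneda.map (𝟙 T)) uliftFunctor.{u + 1, u} = 𝟙 _ by ext; simp]
  exact CategoryTheory.Functor.map_id _ _

theorem cl_comp {T T' : Over S} (f : T' ⟶ T) (x : T ⟶ U) :
    cl s t K (f ≫ x) = QuotSh.repMap K f ≫ cl s t K x := by
  show QuotSh.repMap K (f ≫ x) ≫ _ = _
  rw [repMap_comp, Category.assoc]

theorem cl_eq_of_rel {T : Over S} (r : T ⟶ R) : cl s t K (r ≫ t) = cl s t K (r ≫ s) := by
  rw [cl_comp, cl_comp]
  exact congrArg _ (QuotSh.quot_condition K s t).symm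

/-- sections of `U/R` lift locally -/
theorem exists_cover_lift {T : Over S} (σ : QuotSh.rep K T ⟶ QuotSh.quot K s t) :
    ∃ C ∈ QuotSh.J K S T, ∀ ⦃T' : Over S⦄ (f : T' ⟶ T), C f →
      ∃ x : T' ⟶ U, cl s t K x = QuotSh.repMap K f ≫ σ := by
  haveI : Epi (QuotSh.quotπ K s t) := inferInstanceAs (Epi (coequalizer.π _ _))
  haveI hπ : Sheaf.IsLocallySurjective (QuotSh.quotπ K s t) :=
    (Sheaf.isLocallySurjective_iff_epi' (Type (u + 1)) _).2 inferInstance
  let φ := toSheafify (QuotSh.J K S) (uliftYoneda.{u + 1}.obj U) ≫ (QuotSh.quotπ K s t).hom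
  haveI : Presheaf.IsLocallySurjective (QuotSh.J K S) (QuotSh.quotπ K s t).hom := hπ
  haveI : Presheaf.IsLocallySurjective (QuotSh.J K S) φ :=
    @Presheaf.isLocallySurjective_comp _ _ _ _ _ _ _ _ _ _ _ _ _ _ inferInstance hπ
  refine ⟨_, Presheaf.imageSieve_mem (QuotSh.J K S) φ (secEquiv _ T σ), fun T' f hf => ?_⟩
  obtain ⟨x, hx⟩ := hf
  refine ⟨x.down, (secEquiv _ T').injective ?_⟩
  rw [secEquiv_naturality f σ]
  show secEquiv _ T' (QuotSh.repMap K x.down ≫ QuotSh.quotπ K s t) = _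
  rw [secEquiv_comp, secEquiv_repMap, ← hx]
  rfl

/-- the relation on points -/
def PtRel (T : Over S) (a b : T ⟶ U) : Prop := ∃ r : T ⟶ R, r ≫ t = a ∧ r ≫ s = b

theorem equivalence_ptRel [IsEquivalenceRelation s t] (T : Over S) : _root_.Equivalence (PtRel s t T) := by
  obtain ⟨E⟩ := IsEquivalenceRelation.nonempty_equivalenceRelation (p₁ := s) (p₂ := t)
  refine ⟨fun a => ⟨a ≫ E.r, by rw [Category.assoc, E.reflexivity₂, Category.comp_id],
    by rw [Category.assoc, E.reflexivity₁, Category.comp_id]⟩, ?_, ?_⟩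
  · rintro a b ⟨r, rfl, rfl⟩
    exact ⟨r ≫ E.s, by rw [Category.assoc, E.symmetry₂], by rw [Category.assoc, E.symmetry₁]⟩
  · rintro a b d ⟨r₁, rfl, h₁⟩ ⟨r₂, h₂, rfl⟩
    refine ⟨PullbackCone.IsLimit.lift E.isLimit r₂ r₁ (h₂.trans h₁.symm) ≫ E.t, ?_, ?_⟩
    · rw [Category.assoc, E.transitivity₂, ← Category.assoc, PullbackCone.IsLimit.lift_snd]
    · rw [Category.assoc, E.transitivity₁, ← Category.assoc, PullbackCone.IsLimit.lift_fst]

/-- the presheaf quotient -/
def preQuot : (Over S)ᵒᵖ ⥤ Type (u + 1) where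
  obj T := Quot fun (a b : ULift.{u + 1} (T.unop ⟶ U)) => PtRel s t T.unop a.down b.down
  map {T T'} f := ↾(Quot.map (fun a => ULift.up (f.unop ≫ a.down)) fun a b ⟨r, h1, h2⟩ =>
    ⟨f.unop ≫ r, by rw [Category.assoc, h1], by rw [Category.assoc, h2]⟩)
  map_id T := by
    ext x
    induction x using Quot.ind with
    | mk a => exact congrArg (Quot.mk _) (congrArg ULift.up (Category.id_comp _))
  map_comp f g := by
    ext x
    induction x using Quot.ind with
    | mk a => exact congrArg (Quot.mk _) (congrArg ULift.up (Category.assoc _ _ _))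

def preQuotπ : uliftYoneda.{u + 1}.obj U ⟶ preQuot s t where
  app T := ↾(Quot.mk _)
  naturality T T' f := by ext x; rfl

/-- points with the same class are related locally -/
theorem exists_cover_rel [IsEquivalenceRelation s t] {T : Over S} (a b : T ⟶ U)
    (h : cl s t K a = cl s t K b) :
    ∃ C ∈ QuotSh.J K S T, ∀ ⦃T' : Over S⦄ (f : T' ⟶ T), C f → PtRel s t T' (f ≫ a) (f ≫ b) := by
  let adj := sheafificationAdjunction (QuotSh.J K S) (Type (u + 1))
  let Q : QuotSh.Sh K S := (presheafToSheaf (QuotSh.J K S) (Type (u + 1))).obj (preQuot s t)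
  let p : QuotSh.rep K U ⟶ Q := (presheafToSheaf (QuotSh.J K S) (Type (u + 1))).map (preQuotπ s t)
  have hw : QuotSh.repMap K s ≫ p = QuotSh.repMap K t ≫ p := by
    show (presheafToSheaf _ _).map _ ≫ (presheafToSheaf _ _).map _ = (presheafToSheaf _ _).map _ ≫ (presheafToSheaf _ _).map _
    rw [← Functor.map_comp, ← Functor.map_comp]
    congr 1
    ext T r
    exact (Quot.sound ⟨r.down, rfl, rfl⟩).symm
  have hd : QuotSh.quotπ K s t ≫ coequalizer.desc p hw = p := coequalizer.π_desc _ _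
  have h' : QuotSh.repMap K a ≫ p = QuotSh.repMap K b ≫ p := by
    rw [← hd, ← Category.assoc, ← Category.assoc]
    exact congrArg (· ≫ coequalizer.desc p hw) h
  have hk : ∀ x : T ⟶ U, secEquiv Q T (QuotSh.repMap K x ≫ p) =
      (toSheafify (QuotSh.J K S) (preQuot s t)).app (op T) (Quot.mk _ (ULift.up x)) := fun x => by
    rw [secEquiv_comp, secEquiv_repMap]
    exact (congrArg (fun η => η.app (op T) (ULift.up x)) (toSheafify_naturality (QuotSh.J K S) (preQuotπ s t))).symm
  have h'' := congrArg (secEquiv Q T) h'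
  rw [hk, hk] at h''
  refine ⟨_, Presheaf.equalizerSieve_mem (QuotSh.J K S) (toSheafify (QuotSh.J K S) (preQuot s t)) _ _ h'',
    fun T' f hf => ?_⟩
  have he := Quot.eqvGen_exact hf
  have hE : _root_.Equivalence (fun a b : ULift.{u + 1} (T' ⟶ U) => PtRel s t T' a.down b.down) :=
    ⟨fun a => (equivalence_ptRel s t T').refl _, fun h => (equivalence_ptRel s t T').symm h,
      fun h h' => (equivalence_ptRel s t T').trans h h'⟩
  exact hE.eqvGen_iff.1 he

open CartesianMonoidalCategory in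
/-- points with the same class are related -/
theorem ptRel_of_cl_eq [(QuotSh.J K S).Subcanonical] [IsEquivalenceRelation s t] [Mono (lift t s)] {T : Over S}
    (a b : T ⟶ U) (h : cl s t K a = cl s t K b) : PtRel s t T a b := by
  obtain ⟨C, hC, hr⟩ := exists_cover_rel s t a b h
  obtain ⟨w, hw⟩ := exists_lift_of_cover (lift t s) (lift a b) hC fun T' f hf => by
    obtain ⟨r, h1, h2⟩ := hr f hf
    exact ⟨r, by rw [comp_lift, comp_lift, h1, h2]⟩
  exact ⟨w, by simpa using congrArg (· ≫ CartesianMonoidalCategory.fst _ _) hw,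
    by simpa using congrArg (· ≫ CartesianMonoidalCategory.snd _ _) hw⟩

end Groth.Agent.GrpQFpqc
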